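import Groth.Agent.Lib.MoriNagata2.Data
import Groth.Agent.Lib.AdicSmooth.CompletionIff
import Mathlib.RingTheory.Localization.AtPrime.Basic

/-!
# Residue fields of integral closures of Noetherian local domains are finite
-/

set_option autoImplicit false
set_option linter.style.haveILetI false
universe u

open IsLocalRing MoriNagata

namespace Groth.Agent.MoriRes6

/-- A finite module killed by the maximal ideal is finite over a ring surjecting on the residue field. -/
theorem finite_of_residue {A R M : Type u} [CommRing A] [CommRing R] [IsLocalRing R] [Algebra A R]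
    [AddCommGroup M] [Module A M] [Module R M] [IsScalarTower A R M] [Module.Finite R M]
    (hkill : ∀ r ∈ maximalIdeal R, ∀ x : M, r • x = 0)
    (hsurj : ∀ r : R, ∃ a : A, r - algebraMap A R a ∈ maximalIdeal R) : Module.Finite A M := by
  obtain ⟨s, hs⟩ := (Module.Finite.fg_top : (⊤ : Submodule R M).FG)
  refine ⟨⟨s, eq_top_iff.2 fun x _ => ?_⟩⟩
  have hx : x ∈ Submodule.span R (s : Set M) := hs ▸ Submodule.mem_top
  induction hx using Submodule.span_induction with
  | mem y hy => exact Submodule.subset_span hy
  | zero => exact Submodule.zero_mem _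
  | add y z _ _ hy hz => exact Submodule.add_mem _ (hy Submodule.mem_top) (hz Submodule.mem_top)
  | smul r y _ hy =>
    obtain ⟨a, ha⟩ := hsurj r
    have h := hkill _ ha y
    rw [sub_smul, sub_eq_zero, algebraMap_smul] at h
    rw [h]
    exact Submodule.smul_mem _ a (hy Submodule.mem_top)

theorem finite_residue_local (A K : Type u) [CommRing A] [IsDomain A] [IsNoetherianRing A] [IsLocalRing A]
    [Field K] [Algebra A K] [IsFractionRing A K] (M : Ideal (integralClosure A K)) (hM : M.IsMaximal) :
    Module.Finite A (integralClosure A K ⧸ M) := by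
  classical
  let S := AdicCompletion (maximalIdeal A) A
  haveI : IsLocalHom (algebraMap A S) := inferInstance
  haveI : Module.FaithfullyFlat A S := Module.FaithfullyFlat.of_flat_of_isLocalHom
  haveI := Fintype.ofFinite (Br S)
  let g : ∀ q : Br S, integralClosure A K →+* BrNorm q := fun q => fracToNorm A q
  haveI hloc : ∀ q : Br S, IsLocalRing (BrNorm q) := fun q => isLocalRing_brNorm q
  obtain ⟨q, hq⟩ : ∃ q : Br S, M ≤ (maximalIdeal (BrNorm q)).comap (g q) := by
    by_contra hcon
    push Not at hcon
    obtain ⟨q₀⟩ : Nonempty (Br S) := by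
      obtain ⟨q, hq, -⟩ := Ideal.exists_minimalPrimes_le (bot_le : (⊥ : Ideal S) ≤ maximalIdeal S)
      exact ⟨⟨q, hq⟩⟩
    have hsub : ¬ (M : Set (integralClosure A K)) ⊆ ⋃ q ∈ ((Finset.univ : Finset (Br S)) : Set (Br S)),
        (((maximalIdeal (BrNorm q)).comap (g q) : Ideal (integralClosure A K)) : Set (integralClosure A K)) := by
      rw [Ideal.subset_union_prime q₀ q₀ (fun q _ _ _ => Ideal.IsPrime.comap _)]
      rintro ⟨q, -, hle⟩
      exact hcon q hle
    obtain ⟨y, hyM, hyn⟩ := Set.not_subset.1 hsub
    simp only [Finset.coe_univ, Set.mem_univ, Set.iUnion_true, Set.mem_iUnion, not_exists] at hyn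
    have hunit : ∀ q, IsUnit (g q y) := fun q => IsLocalRing.notMem_maximalIdeal.1 (hyn q)
    have hmul : ∀ q : Br S, ∃ z : BrNorm q, fracToBr (K := K) A q (y : K) * (z : BrField q) = 1 := fun q => by
      obtain ⟨z, hz⟩ := (hunit q).exists_right_inv
      exact ⟨z, congrArg Subtype.val hz⟩
    have hy0 : (y : K) ≠ 0 := by
      intro h0
      obtain ⟨z, hz⟩ := hmul q₀
      rw [h0, map_zero, zero_mul] at hz
      exact zero_ne_one hz
    have hinv : IsIntegral A (y : K)⁻¹ := isIntegral_of_branches (S := S) fun q => by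
      obtain ⟨z, hz⟩ := hmul q
      rw [map_inv₀, inv_eq_of_mul_eq_one_right hz]
      exact z.2
    exact hM.ne_top (Ideal.eq_top_of_isUnit_mem _ hyM
      (IsUnit.of_mul_eq_one (⟨_, hinv⟩ : integralClosure A K) (Subtype.ext (mul_inv_cancel₀ hy0))))
  have hM' : M = (maximalIdeal (BrNorm q)).comap (g q) := hM.eq_of_le (Ideal.IsPrime.comap _).ne_top hq
  let F := ResidueField (BrNorm q)
  letI : Algebra S (BrNorm q) := (toNorm q).toAlgebra
  haveI : IsScalarTower S (S ⧸ q.1) (BrNorm q) := IsScalarTower.of_algebraMap_eq fun _ => rfl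
  haveI : Module.Finite S (BrNorm q) := Module.Finite.trans (S ⧸ q.1) (BrNorm q)
  letI : Algebra A (BrNorm q) := ((toNorm q).comp (algebraMap A S)).toAlgebra
  haveI : IsScalarTower A S (BrNorm q) := IsScalarTower.of_algebraMap_eq fun _ => rfl
  haveI : IsScalarTower A S F := IsScalarTower.of_algebraMap_eq fun _ => rfl
  haveI : Module.Finite S F :=
    Module.Finite.of_surjective (IsScalarTower.toAlgHom S (BrNorm q) F).toLinearMap residue_surjective
  haveI : Module.Finite A F := by
    refine finite_of_residue (R := S) (fun r hr x => ?_) fun r => ?_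
    · rw [Algebra.smul_def]
      haveI : Algebra.IsIntegral S (BrNorm q) := Algebra.IsIntegral.of_finite S _
      have h1 : ((maximalIdeal (BrNorm q)).comap (algebraMap S (BrNorm q))).IsMaximal :=
        Ideal.isMaximal_comap_of_isIntegral_of_isMaximal (R := S) (maximalIdeal (BrNorm q))
      have h2 : toNorm q r ∈ maximalIdeal (BrNorm q) := by
        show r ∈ (maximalIdeal (BrNorm q)).comap (algebraMap S (BrNorm q))
        rw [IsLocalRing.eq_maximalIdeal h1]; exact hr
      rw [show algebraMap S F r = 0 from (residue_eq_zero_iff _).2 h2, zero_mul]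
    · obtain ⟨a, ha⟩ := AdicSmooth.exists_sub_mem (maximalIdeal A) (IsNoetherian.noetherian _) 1 r
      refine ⟨a, ?_⟩
      rw [pow_one] at ha
      refine (Ideal.map_le_iff_le_comap.2 fun x hx => ?_ : _ ≤ maximalIdeal S) ha
      exact map_nonunit (algebraMap A S) x hx
  let ρ : (integralClosure A K ⧸ M) →+* F := Ideal.Quotient.lift M ((residue (BrNorm q)).comp (g q))
    fun x hx => (residue_eq_zero_iff _).2 (hq hx)
  have hρA : ∀ a : A, g q (algebraMap A (integralClosure A K) a) = toNorm q (algebraMap A S a) := fun a =>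
    Subtype.ext (fracToBr_algebraMap q a)
  let ρ' : (integralClosure A K ⧸ M) →ₐ[A] F :=
    { ρ with commutes' := fun a => congrArg (residue (BrNorm q)) (hρA a) }
  haveI : IsNoetherian A F := isNoetherian_of_isNoetherianRing_of_finite A F
  refine Module.Finite.of_injective ρ'.toLinearMap ?_
  refine (injective_iff_map_eq_zero ρ).2 fun x hx => ?_
  obtain ⟨x, rfl⟩ := Ideal.Quotient.mk_surjective x
  rw [Ideal.Quotient.eq_zero_iff_mem, hM']
  exact (residue_eq_zero_iff _).1 hx

/-- Residue fields of integral closures of Noetherian domains, over a maximal ideal. -/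
theorem finite_residue (B K : Type u) [CommRing B] [IsDomain B] [IsNoetherianRing B] [Field K] [Algebra B K]
    [IsFractionRing B K] (P : Ideal (integralClosure B K)) [hP : P.IsMaximal] :
    Module.Finite B (integralClosure B K ⧸ P) := by
  let q := P.comap (algebraMap B (integralClosure B K))
  haveI hqm : q.IsMaximal := Ideal.isMaximal_comap_of_isIntegral_of_isMaximal (R := B) P
  let Bq := Localization.AtPrime q
  haveI : IsDomain Bq := IsLocalization.isDomain_localization q.primeCompl_le_nonZeroDivisors
  haveI : IsNoetherianRing Bq := IsLocalization.isNoetherianRing q.primeCompl Bq inferInstance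
  have hu : ∀ y : q.primeCompl, IsUnit (algebraMap B K y) := fun y => IsUnit.mk0 _ fun h => y.2 (by
    have : (y : B) = 0 := IsFractionRing.injective B K (by rw [h, map_zero])
    rw [this]; exact q.zero_mem)
  letI : Algebra Bq K := (IsLocalization.lift (M := q.primeCompl) (S := Bq) hu).toAlgebra
  haveI : IsScalarTower B Bq K := IsScalarTower.of_algebraMap_eq fun y => (IsLocalization.lift_eq hu y).symm
  haveI : IsFractionRing Bq K := IsFractionRing.isFractionRing_of_isDomain_of_isLocalization q.primeCompl Bq K
  let N := integralClosure B K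
  let Nq := integralClosure Bq K
  let j : N →+* Nq := (algebraMap N K).codRestrict Nq.toSubring (fun x => IsIntegral.tower_top (A := Bq) x.2)
  have hclear : ∀ y : Nq, ∃ s : B, s ∉ q ∧ IsIntegral B (algebraMap B K s * (y : K)) := by
    intro y
    obtain ⟨⟨m, hm⟩, hmy⟩ := IsIntegral.exists_multiple_integral_of_isLocalization q.primeCompl (Rₘ := Bq) (y : K) y.2
    exact ⟨m, hm, by rwa [Submonoid.smul_def, Algebra.smul_def] at hmy⟩
  letI : Algebra N Nq := j.toAlgebra
  haveI : IsLocalization (Algebra.algebraMapSubmonoid N q.primeCompl) Nq := by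
    refine (isLocalization_iff _ _).2 ⟨?_, fun y => ?_, fun {x y} h => ⟨1, ?_⟩⟩
    · rintro ⟨_, s, hs, rfl⟩
      show IsUnit (j (algebraMap B N s))
      have : j (algebraMap B N s) = algebraMap Bq Nq (algebraMap B Bq s) :=
        Subtype.ext (IsScalarTower.algebraMap_apply B Bq K s)
      rw [this]
      exact (IsLocalization.map_units Bq (⟨s, hs⟩ : q.primeCompl)).map _
    · obtain ⟨s, hs, hsy⟩ := hclear y
      refine ⟨(⟨_, hsy⟩, ⟨_, s, hs, rfl⟩), Subtype.ext ?_⟩
      show (y : K) * algebraMap B K s = algebraMap B K s * (y : K)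
      ring
    · rw [Subtype.ext (congrArg Subtype.val h :) (a1 := x) (a2 := y)]
  have hdisj : Disjoint ((Algebra.algebraMapSubmonoid N q.primeCompl : Set N)) (P : Set N) := by
    rw [Set.disjoint_left]
    rintro _ ⟨s, hs, rfl⟩ h
    exact hs h
  let M : Ideal Nq := P.map (algebraMap N Nq)
  haveI hMp : M.IsPrime := IsLocalization.isPrime_of_isPrime_disjoint _ Nq P hP.isPrime hdisj
  have hMP : M.comap j = P := IsLocalization.comap_map_of_isPrime_disjoint _ Nq hP.isPrime hdisj
  have hMq : M.comap (algebraMap Bq Nq) = maximalIdeal Bq := by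
    refine ((IsLocalRing.maximalIdeal.isMaximal Bq).eq_of_le (Ideal.IsPrime.comap _).ne_top ?_).symm
    rw [← Localization.AtPrime.map_eq_maximalIdeal, Ideal.map_le_iff_le_comap]
    intro b hb
    show algebraMap Bq Nq (algebraMap B Bq b) ∈ M
    have : algebraMap Bq Nq (algebraMap B Bq b) = j (algebraMap B N b) :=
      Subtype.ext (IsScalarTower.algebraMap_apply B Bq K b).symm
    rw [this]
    exact Ideal.mem_map_of_mem _ hb
  haveI hMmax : M.IsMaximal := Ideal.isMaximal_of_isIntegral_of_isMaximal_comap (R := Bq) M (by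
    rw [hMq]; infer_instance)
  haveI := finite_residue_local Bq K M hMmax
  haveI : Module.Finite B (Nq ⧸ M) := by
    refine finite_of_residue (R := Bq) (fun r hr x => ?_) fun r => ?_
    · obtain ⟨y, rfl⟩ := Ideal.Quotient.mk_surjective x
      show Ideal.Quotient.mk M (r • y) = 0
      rw [Ideal.Quotient.eq_zero_iff_mem, show r • y = algebraMap Bq Nq r * y from
        Subtype.ext (Algebra.smul_def r (y : K))]
      refine Ideal.mul_mem_right _ _ ?_
      show r ∈ M.comap (algebraMap Bq Nq)
      rw [hMq]; exact hr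
    · obtain ⟨⟨c, s⟩, h⟩ := IsLocalization.surj q.primeCompl r
      obtain ⟨u, hu'⟩ := (hqm.exists_inv s.2 : ∃ u, ∃ i ∈ q, u * (s : B) + i = 1)
      obtain ⟨i, hi, hui⟩ := hu'
      refine ⟨c * u, ?_⟩
      have hi' : algebraMap B Bq i ∈ maximalIdeal Bq := (IsLocalization.AtPrime.to_map_mem_maximal_iff Bq q i).2 hi
      have : r - algebraMap B Bq (c * u) = r * algebraMap B Bq i := by
        rw [map_mul, ← h]
        have h1 := congrArg (algebraMap B Bq) hui
        rw [map_add, map_mul, map_one] at h1
        linear_combination -r * h1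
      rw [this]
      exact Ideal.mul_mem_left _ _ hi'
  let ρ : (N ⧸ P) →ₐ[B] (Nq ⧸ M) :=
    { Ideal.quotientMap M j hMP.ge with
      commutes' := fun b => congrArg (Ideal.Quotient.mk M) (Subtype.ext rfl) }
  haveI : IsNoetherian B (Nq ⧸ M) := isNoetherian_of_isNoetherianRing_of_finite B _
  exact Module.Finite.of_injective ρ.toLinearMap (Ideal.quotientMap_injective' (H := hMP.ge) hMP.le)

end Groth.Agent.MoriRes6
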