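import Groth.Agent.Lib.MoriRes6.Basic
import Mathlib.RingTheory.QuasiFinite.Basic

/-!
# The integral closure of a Noetherian local domain in a finite extension is semilocal
-/

set_option autoImplicit false
set_option linter.style.haveILetI false
universe u

open IsLocalRing MoriNagata

namespace Groth.Agent.MoriRes6

variable (A K' : Type u) [CommRing A] [IsDomain A] [IsLocalRing A] [IsNoetherianRing A]
  [Field K'] [Algebra A K'] [Algebra (FractionRing A) K'] [IsScalarTower A (FractionRing A) K']
  [FiniteDimensional (FractionRing A) K']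

include A in
/-- A finite subalgebra with fraction field the whole extension. -/
theorem exists_finite_birational : ∃ B : Subalgebra A K', Module.Finite A B ∧ IsFractionRing B K' := by
  classical
  let b := Module.finBasis (FractionRing A) K'
  have hscale : ∀ i, ∃ a : A, a ≠ 0 ∧ IsIntegral A (algebraMap A K' a * b i) := fun i => by
    obtain ⟨⟨a, ha⟩, h⟩ := IsIntegral.exists_multiple_integral_of_isLocalization (nonZeroDivisors A)
      (Rₘ := FractionRing A) (b i) (Algebra.IsIntegral.isIntegral (R := FractionRing A) (b i))
    exact ⟨a, nonZeroDivisors.ne_zero ha, by rwa [Submonoid.smul_def, Algebra.smul_def] at h⟩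
  choose a ha hai using hscale
  let B := Algebra.adjoin A (Set.range fun i => algebraMap A K' (a i) * b i)
  have hBfin : Module.Finite A B :=
    Module.Finite.iff_fg.2 (fg_adjoin_of_finite (Set.finite_range _) (by rintro _ ⟨i, rfl⟩; exact hai i))
  have hinj : Function.Injective (algebraMap A K') := by
    rw [IsScalarTower.algebraMap_eq A (FractionRing A) K']
    exact (algebraMap (FractionRing A) K').injective.comp (IsFractionRing.injective A _)
  refine ⟨B, hBfin, IsFractionRing.of_field B K' fun z => ?_⟩
  let T : Submodule A K' :=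
    { carrier := {z | ∃ s : A, s ≠ 0 ∧ algebraMap A K' s * z ∈ B}
      zero_mem' := ⟨1, one_ne_zero, by rw [mul_zero]; exact zero_mem _⟩
      add_mem' := by
        rintro x y ⟨s, hs, hx⟩ ⟨t, ht, hy⟩
        refine ⟨s * t, mul_ne_zero hs ht, ?_⟩
        rw [map_mul, show algebraMap A K' s * algebraMap A K' t * (x + y) =
          algebraMap A K' t * (algebraMap A K' s * x) + algebraMap A K' s * (algebraMap A K' t * y) by ring]
        exact add_mem (mul_mem (B.algebraMap_mem _) hx) (mul_mem (B.algebraMap_mem _) hy)
      smul_mem' := by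
        rintro c x ⟨s, hs, hx⟩
        refine ⟨s, hs, ?_⟩
        rw [Algebra.smul_def, mul_left_comm]
        exact mul_mem (B.algebraMap_mem _) hx }
  have hzT : z ∈ T := by
    rw [← b.sum_repr z]
    refine Submodule.sum_mem _ fun i _ => ?_
    obtain ⟨c, d, hd, hcd⟩ := IsFractionRing.div_surjective (A := A) (b.repr z i)
    have hd0 : algebraMap A (FractionRing A) d ≠ 0 := IsFractionRing.to_map_ne_zero_of_mem_nonZeroDivisors hd
    refine ⟨d * a i, mul_ne_zero (nonZeroDivisors.ne_zero hd) (ha i), ?_⟩
    have : algebraMap A K' (d * a i) * (b.repr z i • b i) = algebraMap A K' c * (algebraMap A K' (a i) * b i) := by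
      rw [Algebra.smul_def, map_mul, ← hcd, map_div₀, ← IsScalarTower.algebraMap_apply, ← IsScalarTower.algebraMap_apply]
      have : algebraMap A K' d ≠ 0 := (map_ne_zero_iff _ hinj).2 (nonZeroDivisors.ne_zero hd)
      field_simp
    rw [this]
    exact mul_mem (B.algebraMap_mem _) (Algebra.subset_adjoin ⟨i, rfl⟩)
  obtain ⟨s, hs, hsz⟩ := hzT
  refine ⟨⟨_, hsz⟩, ⟨algebraMap A K' s, B.algebraMap_mem _⟩, ?_⟩
  show z = algebraMap A K' s * z / algebraMap A K' s
  rw [mul_div_assoc, mul_div_cancel₀ _ ((map_ne_zero_iff _ hinj).2 hs)]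

theorem finite_maximal : {m : Ideal (integralClosure A K') | m.IsMaximal}.Finite := by
  obtain ⟨B, hB, hfrac⟩ := exists_finite_birational A K'
  haveI := hB
  haveI := hfrac
  haveI : Algebra.IsIntegral A B := Algebra.IsIntegral.of_finite A B
  haveI : IsNoetherianRing B := IsNoetherianRing.of_finite A B
  let C := integralClosure B K'
  let e : integralClosure A K' ≃+* C :=
    { toFun := fun x => ⟨x.1, IsIntegral.tower_top x.2⟩
      invFun := fun x => ⟨x.1, isIntegral_trans (R := A) x.1 x.2⟩
      left_inv := fun _ => rfl
      right_inv := fun _ => rfl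
      map_mul' := fun _ _ => rfl
      map_add' := fun _ _ => rfl }
  have hfinB : {q : Ideal B | q.IsMaximal}.Finite := by
    refine (Algebra.QuasiFinite.finite_primesOver (R := A) (S := B) (maximalIdeal A)).subset fun q hq => ?_
    haveI : q.IsMaximal := hq
    exact ⟨hq.isPrime, ⟨(IsLocalRing.eq_maximalIdeal (Ideal.isMaximal_comap_of_isIntegral_of_isMaximal (R := A) q)).symm⟩⟩
  refine ((hfinB.biUnion (t := fun q => {P : Ideal C | P.IsPrime ∧ P.comap (algebraMap B C) = q}) fun q hq =>
    haveI : q.IsPrime := hq.isPrime
    MoriNagata.finite_primesOver B K' q).image (fun P => P.comap e.toRingHom)).subset fun m hm => ?_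
  haveI : (m.comap e.symm.toRingHom).IsMaximal :=
    haveI : m.IsMaximal := hm
    Ideal.comap_isMaximal_of_surjective _ e.symm.surjective
  refine ⟨m.comap e.symm.toRingHom, Set.mem_biUnion (x := (m.comap e.symm.toRingHom).comap (algebraMap B C))
    (Ideal.isMaximal_comap_of_isIntegral_of_isMaximal (R := B) (m.comap e.symm.toRingHom))
    ⟨Ideal.IsMaximal.isPrime ‹_›, rfl⟩, ?_⟩
  ext x
  simp

set_option synthInstance.maxHeartbeats 200000 in
set_option maxHeartbeats 800000 in
theorem finite_residue_ext (m : Ideal (integralClosure A K')) (hm : m.IsMaximal) :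
    Module.Finite A (integralClosure A K' ⧸ m) := by
  obtain ⟨B, hB, hfrac⟩ := exists_finite_birational A K'
  haveI := hB
  haveI := hfrac
  haveI : Algebra.IsIntegral A B := Algebra.IsIntegral.of_finite A B
  haveI : IsNoetherianRing B := IsNoetherianRing.of_finite A B
  let C := integralClosure B K'
  let e : integralClosure A K' ≃+* C :=
    { toFun := fun x => ⟨x.1, IsIntegral.tower_top x.2⟩
      invFun := fun x => ⟨x.1, isIntegral_trans (R := A) x.1 x.2⟩
      left_inv := fun _ => rfl
      right_inv := fun _ => rfl
      map_mul' := fun _ _ => rfl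
      map_add' := fun _ _ => rfl }
  haveI : (m.comap e.symm.toRingHom).IsMaximal :=
    haveI : m.IsMaximal := hm
    Ideal.comap_isMaximal_of_surjective _ e.symm.surjective
  haveI := finite_residue B K' (m.comap e.symm.toRingHom)
  haveI : Module.Finite A (C ⧸ m.comap e.symm.toRingHom) := Module.Finite.trans B _
  let ρ : (C ⧸ m.comap e.symm.toRingHom) →ₐ[A] (integralClosure A K' ⧸ m) :=
    { Ideal.quotientMap m e.symm.toRingHom le_rfl with
      commutes' := fun a => congrArg (Ideal.Quotient.mk m) (Subtype.ext rfl) }
  exact Module.Finite.of_surjective ρ.toLinearMap (Ideal.quotientMap_surjective (H := le_rfl) e.symm.surjective)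

end Groth.Agent.MoriRes6
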